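import Cfsg.Agent.H205.RM.RowB
import Cfsg.Agent.H205.RM.Eig
import Cfsg.Agent.H571.RM.RowC

/-!
# S3849: `RowM` from an abelian `2`-subgroup of a central extension (helper205)

`rowM_of_cover` : `X → S` a central extension, `ρ` a faithful representation of `X`, `B ≤ X` an abelian `2`-group no two
weights of which differ by a character of order two; `|A|` prime to the order of the kernel.
-/

set_option autoImplicit false

namespace Cfsg.Agent.H205.RM

open Subgroup Cfsg Cfsg.Agent.H988.CPi Cfsg.Agent.H571.DExt Cfsg.Agent.H571.RV Cfsg.Agent.H571.RM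
  Cfsg.Agent.Solvable.SZ Module
open scoped Pointwise

universe u

variable {π : Set ℕ} {S : Type u} [Group S] [Finite S] {H A : Subgroup S}

section cover

variable {X : Type*} [Group X] [Finite X] (f : X →* S)
  {K V : Type*} [Field K] [IsAlgClosed K] [AddCommGroup V] [Module K V] [FiniteDimensional K V] (ρ : X →* End K V)

/-- the condition on the weights of `B` : no two of them differ by a character of order two -/
def NoTwo (B : Subgroup X) : Prop :=
  ∀ v w : V, v ≠ 0 → w ≠ 0 → (∀ b ∈ B, ∃ s t : K, ρ b v = s • v ∧ ρ b w = t • w ∧ s ^ 2 = t ^ 2) →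
    ∀ b ∈ B, ∀ s t : K, ρ b v = s • v → ρ b w = t • w → s = t

omit [Finite X] [IsAlgClosed K] [FiniteDimensional K V] in
theorem NoTwo.conj {ρ : X →* End K V} {B : Subgroup X} (h : NoTwo ρ B) (g : X) : NoTwo ρ (MulAut.conj g • B) := by
  have hinv : ∀ v : V, ρ g (ρ g⁻¹ v) = v := by
    intro v
    rw [← Module.End.mul_apply, ← map_mul, mul_inv_cancel, map_one]
    rfl
  have hinv' : ∀ v : V, ρ g⁻¹ (ρ g v) = v := by
    intro v
    rw [← Module.End.mul_apply, ← map_mul, inv_mul_cancel, map_one]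
    rfl
  have h0 : ∀ v : V, v ≠ 0 → ρ g⁻¹ v ≠ 0 := by
    intro v hv h1
    apply hv
    rw [← hinv v, h1, map_zero]
  have hb : ∀ (b : X) (v : V) (s : K), ρ (g * b * g⁻¹) v = s • v ↔ ρ b (ρ g⁻¹ v) = s • ρ g⁻¹ v := by
    intro b v s
    rw [map_mul, map_mul, Module.End.mul_apply, Module.End.mul_apply]
    constructor
    · intro h1
      rw [← hinv' (ρ b (ρ g⁻¹ v)), h1, map_smul]
    · intro h1
      rw [h1, map_smul, hinv]
  intro v w hv hw hall
  rintro _ ⟨b, hbB, rfl⟩ s t hs ht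
  have hs' : ρ (g * b * g⁻¹) v = s • v := hs
  have ht' : ρ (g * b * g⁻¹) w = t • w := ht
  refine h _ _ (h0 v hv) (h0 w hw) ?_ b hbB s t ((hb _ _ _).1 hs') ((hb _ _ _).1 ht')
  intro b' hb'
  obtain ⟨s', t', h1, h2, h3⟩ := hall (g * b' * g⁻¹) ⟨b', hb', rfl⟩
  exact ⟨s', t', (hb _ _ _).1 h1, (hb _ _ _).1 h2, h3⟩

/-- **the row from a `2`-subgroup of a central extension** -/
theorem rowM_of_cover [IsSimpleGroup S] (hna : ∃ a b : S, a * b ≠ b * a) (d : HA π 2 H A) (h2π : 2 ∈ π)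
    (hf : Function.Surjective f) (hker : f.ker ≤ Subgroup.center X) (hcop : (Nat.card A).Coprime (Nat.card f.ker))
    (hρ : Function.Injective ρ) (h2K : (2 : K) ≠ 0) (hAK : (Nat.card A : K) ≠ 0) {B : Subgroup X}
    (hB : ∀ b ∈ B, ∀ b' ∈ B, b * b' = b' * b) (hBp : IsPGroup 2 B) (hB1 : ¬ B ≤ f.ker) (hw : NoTwo ρ B) :
    RowM π S := by
  refine rowM_of_sub (B₀ := B.map f) hna d h2π ?_ (hBp.map f) ?_
  · intro h
    apply hB1
    rwa [Subgroup.map_eq_bot_iff] at h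
  · obtain ⟨A', hA'A, hA'c, hA'card, -, hA'n⟩ := exists_lift_A f hf hker d.ab hcop
    intro _ g hg
    obtain ⟨g', rfl⟩ := hf g
    have hmap : MulAut.conj (f g') • B.map f = (MulAut.conj g' • B).map f := by
      ext y
      constructor
      · rintro ⟨_, ⟨b, hb, rfl⟩, rfl⟩
        exact ⟨g' * b * g'⁻¹, ⟨b, hb, rfl⟩, by simp⟩
      · rintro ⟨_, ⟨b, hb, rfl⟩, rfl⟩
        exact ⟨f b, ⟨b, hb, rfl⟩, by simp⟩
    rw [hmap] at hg ⊢
    have key := comm_of_weights ρ h2K A' (MulAut.conj g' • B) hA'c (by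
      rintro _ ⟨b, hb, rfl⟩ _ ⟨b', hb', rfl⟩
      change g' * b * g'⁻¹ * (g' * b' * g'⁻¹) = g' * b' * g'⁻¹ * (g' * b * g'⁻¹)
      calc g' * b * g'⁻¹ * (g' * b' * g'⁻¹) = g' * (b * b') * g'⁻¹ := by group
        _ = g' * (b' * b) * g'⁻¹ := by rw [hB b hb b' hb']
        _ = _ := by group) (by rw [hA'card]; exact hAK) (by
      rintro ⟨_, b, hb, rfl⟩
      obtain ⟨k, hk⟩ := hBp ⟨b, hb⟩
      refine ⟨k, Subtype.ext ?_⟩
      have h1 : b ^ 2 ^ k = 1 := congrArg Subtype.val hk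
      change (MulAut.conj g' b) ^ 2 ^ k = 1
      rw [← map_pow, h1, map_one]) (by
      intro b hb a ha
      have h1 := hA'n b (d.nor (hg ⟨b, hb, rfl⟩))
      exact (mem_normalizer_iff.1 h1 a).1 ha) (hw.conj g')
    rintro _ ⟨b, hb, rfl⟩ a ha
    rw [← hA'A] at ha
    obtain ⟨a', ha', rfl⟩ := ha
    have h1 := key a' ha' b hb
    rw [← map_mul, ← map_mul] at h1
    rw [← map_mul, ← map_mul, hρ h1]

end cover

/-- all `t`-subgroups of `S` are abelian, for the odd primes `t ∈ π` -/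
theorem comm_of_tgroup (d : HA π 2 H A) {t : ℕ} (ht : t.Prime) (htπ : t ∈ π) (ht2 : t ≠ 2) {Q : Subgroup S}
    (hQ : IsPGroup t Q) : ∀ x ∈ Q, ∀ y ∈ Q, x * y = y * x := by
  have : Fact t.Prime := ⟨ht⟩
  obtain ⟨P⟩ : Nonempty (Sylow t A) := inferInstance
  have hidx : ¬ t ∣ ((P : Subgroup A).map A.subtype).index := by
    have h1 : ((P : Subgroup A).map A.subtype).index = (P : Subgroup A).index * A.index := by
      rw [index_map_subtype]
    rw [h1, ← relIndex_mul_index d.ale]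
    intro hd
    rcases (ht.dvd_mul).1 hd with h | h
    · exact P.not_dvd_index h
    · rcases (ht.dvd_mul).1 h with h | h
      · exact ht2 (d.idx t ht h)
      · exact d.hall.2 t ht htπ h
  set P' : Sylow t S := (P.isPGroup'.map A.subtype).toSylow hidx with hP'
  obtain ⟨R, hR⟩ := hQ.exists_le_sylow
  obtain ⟨g, hg⟩ := MulAction.exists_smul_eq S P' R
  intro x hx y hy
  have key : ∀ x ∈ Q, ∃ a ∈ A, x = g * a * g⁻¹ := by
    intro x hx
    have h1 : x ∈ g • P' := by rw [hg]; exact hR hx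
    have h2 : x ∈ MulAut.conj g • (P' : Subgroup S) := by rw [← Sylow.coe_subgroup_smul]; exact h1
    obtain ⟨a, ha, rfl⟩ := h2
    obtain ⟨a', -, rfl⟩ : a ∈ (P : Subgroup A).map A.subtype := ha
    exact ⟨a', a'.2, rfl⟩
  obtain ⟨a, ha, rfl⟩ := key x hx
  obtain ⟨b, hb, rfl⟩ := key y hy
  calc g * a * g⁻¹ * (g * b * g⁻¹) = g * (a * b) * g⁻¹ := by group
    _ = g * (b * a) * g⁻¹ := by rw [d.ab a ha b hb]
    _ = _ := by group

/-- the order of `A` is prime to that of the kernel -/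
theorem coprime_of_nonabelian {X : Type*} [Group X] (f : X →* S) [Finite X] (d : HA π 2 H A)
    (h : ∀ t : ℕ, t.Prime → t ∈ π → t ≠ 2 → t ∣ Nat.card f.ker →
      ∃ Q : Subgroup X, IsPGroup t Q ∧ ∃ x ∈ Q, ∃ y ∈ Q, f (x * y) ≠ f (y * x)) :
    (Nat.card A).Coprime (Nat.card f.ker) := by
  rw [Nat.coprime_iff_gcd_eq_one]
  by_contra hne
  obtain ⟨t, ht, hd⟩ := Nat.exists_prime_and_dvd hne
  have hA : t ∣ Nat.card A := hd.trans (Nat.gcd_dvd_left _ _)
  have hK : t ∣ Nat.card f.ker := hd.trans (Nat.gcd_dvd_right _ _)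
  have htπ : t ∈ π := d.hall.1 t ht (hA.trans (card_dvd_of_le d.ale))
  have ht2 : t ≠ 2 := by
    rintro rfl
    exact d.rA hA
  obtain ⟨Q, hQ, x, hx, y, hy, hxy⟩ := h t ht htπ ht2 hK
  apply hxy
  rw [map_mul, map_mul]
  exact comm_of_tgroup d ht htπ ht2 (hQ.map f) _ ⟨x, hx, rfl⟩ _ ⟨y, hy, rfl⟩

end Cfsg.Agent.H205.RM
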