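import Mathlib
import Cfsg.Agent.H205.RM.Cover
import Cfsg.Agent.H554.RV.Mat
import Cfsg.Agent.H959.RV.Two

/-!
# S3849: `RowM` for groups of matrices, `2 ∈ π`, `3 ∉ π` (helper205)

`MD X n F E` : a group `X` of `n × n` matrices over `F` with scalar centre, containing the even permutation matrices and
the diagonal matrices of determinant one whose entries are `E`-th roots of unity.

`rowM_of_md` : `RowM π S` for `S = X / Z(X)`, `n ≥ 3`.
-/

set_option autoImplicit false

namespace Cfsg.Agent.H205.RM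

open Matrix Subgroup Cfsg Cfsg.Agent.H988.CPi Cfsg.Agent.H571.DExt Cfsg.Agent.H571.RV Cfsg.Agent.H571.RM
  Cfsg.Agent.Solvable.SZ Module
open scoped Pointwise

universe u

/-- a group of matrices -/
structure MD (X : Type*) [Group X] (n : ℕ) (F : Type*) [Field F] (E : ℕ) where
  /-- the matrix of an element -/
  j : X →* Matrix (Fin n) (Fin n) F
  inj : Function.Injective j
  cen : ∀ x ∈ Subgroup.center X, ∃ c : F, j x = diagonal fun _ => c
  diag : ∀ d : Fin n → F, (∀ i, d i ^ E = 1) → ∏ i, d i = 1 → ∃ x, j x = diagonal d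
  perm : ∀ σ : Equiv.Perm (Fin n), Equiv.Perm.sign σ = 1 → ∃ x, j x = σ.permMatrix F
  tor : ∀ t, t ∣ E → ∃ ω : F, orderOf ω = t

variable {X : Type*} [Group X] {n : ℕ} {F : Type*} [Field F] {E : ℕ} (D : MD X n F E)

section rep

variable (K : Type*) [Field K] [Algebra F K]

/-- the representation over `K` -/
noncomputable def MD.rho (D : MD X n F E) : X →* End K (Fin n → K) :=
  ((MonoidHomClass.toMonoidHom (Matrix.toLinAlgEquiv' (R := K) (n := Fin n))).comp
    (algebraMap F K).mapMatrix.toMonoidHom).comp D.j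

theorem MD.rho_apply (x : X) (v : Fin n → K) : D.rho K x v = ((D.j x).map (algebraMap F K)) *ᵥ v := rfl

theorem MD.rho_inj : Function.Injective (D.rho K) := by
  intro x y h
  have h1 : (D.j x).map (algebraMap F K) = (D.j y).map (algebraMap F K) :=
    (Matrix.toLinAlgEquiv' (R := K) (n := Fin n)).injective h
  apply D.inj
  ext i k
  exact (algebraMap F K).injective (congrFun (congrFun h1 i) k)

end rep

/-- diagonal elements with entries of order dividing `m` -/
def MD.dg (m : ℕ) : Subgroup X where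
  carrier := {x | ∃ d : Fin n → F, D.j x = diagonal d ∧ ∀ i, d i ^ m = 1}
  one_mem' := ⟨fun _ => 1, by rw [map_one, diagonal_one], fun _ => one_pow m⟩
  mul_mem' := by
    rintro x y ⟨d, hd, hd'⟩ ⟨d', hd1, hd1'⟩
    exact ⟨fun i => d i * d' i, by rw [map_mul, hd, hd1, diagonal_mul_diagonal],
      fun i => by rw [mul_pow, hd', hd1', one_mul]⟩
  inv_mem' := by
    rintro x ⟨d, hd, hd'⟩
    have h0 : ∀ i, d i ≠ 0 ∨ m = 0 := by
      intro i
      by_contra h
      push Not at h
      have h1 := hd' i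
      rw [h.1, zero_pow h.2] at h1
      exact zero_ne_one h1
    have hx : IsUnit (diagonal d : Matrix (Fin n) (Fin n) F) := by
      rw [← hd]
      exact (Group.isUnit x).map D.j
    have h1 : ∀ i, d i ≠ 0 := by
      intro i h2
      rw [Matrix.isUnit_diagonal, Pi.isUnit_iff] at hx
      exact (hx i).ne_zero h2
    refine ⟨fun i => (d i)⁻¹, ?_, fun i => by rw [inv_pow, hd', inv_one]⟩
    have h2 : D.j x * D.j x⁻¹ = 1 := by rw [← map_mul, mul_inv_cancel, map_one]
    have h3 : (diagonal fun i => (d i)⁻¹) * D.j x = 1 := by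
      rw [hd, diagonal_mul_diagonal]
      have : (fun i => (d i)⁻¹ * d i) = fun _ => (1 : F) := by
        funext i
        exact inv_mul_cancel₀ (h1 i)
      rw [this, diagonal_one]
    calc D.j x⁻¹ = ((diagonal fun i => (d i)⁻¹) * D.j x) * D.j x⁻¹ := by rw [h3, Matrix.one_mul]
      _ = _ := by rw [Matrix.mul_assoc, h2, Matrix.mul_one]

theorem MD.mem_dg {m : ℕ} {x : X} : x ∈ D.dg m ↔ ∃ d : Fin n → F, D.j x = diagonal d ∧ ∀ i, d i ^ m = 1 := Iff.rfl

theorem MD.dg_comm {m : ℕ} : ∀ x ∈ D.dg m, ∀ y ∈ D.dg m, x * y = y * x := by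
  rintro x ⟨d, hd, -⟩ y ⟨d', hd', -⟩
  apply D.inj
  rw [map_mul, map_mul, hd, hd', diagonal_mul_diagonal, diagonal_mul_diagonal]
  congr 1
  funext i
  exact mul_comm _ _

theorem MD.dg_pow {m : ℕ} {x : X} (h : x ∈ D.dg m) : x ^ m = 1 := by
  obtain ⟨d, hd, hd'⟩ := h
  apply D.inj
  rw [map_pow, hd, diagonal_pow, map_one, ← diagonal_one]
  congr 1
  funext i
  exact hd' i

theorem MD.dg_pgroup {t : ℕ} (k : ℕ) : IsPGroup t (D.dg (t ^ k)) := by
  rintro ⟨x, hx⟩
  exact ⟨k, Subtype.ext (D.dg_pow hx)⟩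

/-- the diagonal matrix with entries `a` at `i`, `a⁻¹` at `k` -/
theorem MD.exists_two {i k : Fin n} (hik : i ≠ k) {a : F} (ha : a ^ E = 1) (ha0 : a ≠ 0) :
    ∃ x : X, D.j x = diagonal (fun l => if l = i then a else if l = k then a⁻¹ else 1) := by
  apply D.diag
  · intro l
    split_ifs
    · exact ha
    · rw [inv_pow, ha, inv_one]
    · exact one_pow _
  · rw [← Finset.mul_prod_erase Finset.univ _ (Finset.mem_univ i),
      ← Finset.mul_prod_erase (Finset.univ.erase i) _ (Finset.mem_erase.2 ⟨hik.symm, Finset.mem_univ k⟩)]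
    have h1 : ∏ x ∈ (Finset.univ.erase i).erase k, (if x = i then a else if x = k then a⁻¹ else 1) = 1 := by
      refine Finset.prod_eq_one fun x hx => ?_
      rw [Finset.mem_erase, Finset.mem_erase] at hx
      simp [hx.1, hx.2.1]
    rw [h1]
    simp [hik.symm, ha0]

/-- **the diagonal case** -/
theorem MD.noTwo_dg (hn : 3 ≤ n) (hE : 4 ∣ E) (K : Type*) [Field K] [Algebra F K] (h2K : (2 : K) ≠ 0) :
    NoTwo (D.rho K) (D.dg 4) := by
  obtain ⟨a, ha⟩ := D.tor 4 hE
  have ha4 : a ^ 4 = 1 := by rw [← ha]; exact pow_orderOf_eq_one a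
  have haE : a ^ E = 1 := by
    obtain ⟨k, rfl⟩ := hE
    rw [pow_mul, ha4, one_pow]
  have ha0 : a ≠ 0 := by
    rintro rfl
    simp at ha4
  have ha2 : a ^ 2 = -1 := by
    have h1 : a ^ 2 ≠ 1 := by
      intro h
      have h3 := orderOf_dvd_of_pow_eq_one h
      rw [ha] at h3
      norm_num at h3
    have h3 : (a ^ 2 - 1) * (a ^ 2 + 1) = 0 := by linear_combination ha4
    rcases mul_eq_zero.1 h3 with h4 | h4
    · exact absurd (sub_eq_zero.1 h4) h1
    · linear_combination h4
  have key : ∀ (b : X) (d : Fin n → F), D.j b = diagonal d → ∀ (v : Fin n → K) (s : K), D.rho K b v = s • v →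
      ∀ i, v i ≠ 0 → s = algebraMap F K (d i) := by
    intro b d hd v s hs i hi
    have h1 := congrFun hs i
    rw [D.rho_apply, hd, Matrix.diagonal_map (map_zero _), Matrix.mulVec_diagonal, Pi.smul_apply, smul_eq_mul] at h1
    exact (mul_right_cancel₀ hi h1).symm
  intro v w hv hw hall
  obtain ⟨i, hi⟩ := Function.ne_iff.1 hv
  obtain ⟨k, hk⟩ := Function.ne_iff.1 hw
  have hik : i = k := by
    by_contra hik
    obtain ⟨l, hl⟩ : ∃ l : Fin n, l ∉ ({i, k} : Finset (Fin n)) := by
      by_contra hcon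
      push Not at hcon
      have h1 : (Finset.univ : Finset (Fin n)).card ≤ ({i, k} : Finset (Fin n)).card :=
        Finset.card_le_card fun k _ => hcon k
      have h2 : ({i, k} : Finset (Fin n)).card ≤ 2 := Finset.card_le_two
      rw [Finset.card_univ, Fintype.card_fin] at h1
      omega
    simp only [Finset.mem_insert, Finset.mem_singleton, not_or] at hl
    obtain ⟨b, hb⟩ := D.exists_two (Ne.symm hl.1) haE ha0
    have hbB : b ∈ D.dg 4 := by
      refine ⟨_, hb, fun m => ?_⟩
      split_ifs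
      · exact ha4
      · rw [inv_pow, ha4, inv_one]
      · exact one_pow _
    obtain ⟨s, t, hs, ht, hst⟩ := hall b hbB
    have e1 := key b _ hb v s hs i hi
    have e2 := key b _ hb w t ht k hk
    rw [if_pos rfl] at e1
    rw [if_neg (fun h => hik h.symm), if_neg (fun h => hl.2 h.symm), map_one] at e2
    rw [e1, e2, ← map_pow, ha2, map_neg, map_one, one_pow] at hst
    apply h2K
    linear_combination -hst
  subst hik
  rintro b ⟨d, hd, -⟩ s t hs ht
  rw [key b d hd v s hs i hi, key b d hd w t ht i hk]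

theorem MD.not_cen (hn : 3 ≤ n) (hE : 4 ∣ E) : ¬ D.dg 4 ≤ Subgroup.center X := by
  obtain ⟨a, ha⟩ := D.tor 4 hE
  have ha4 : a ^ 4 = 1 := by rw [← ha]; exact pow_orderOf_eq_one a
  have haE : a ^ E = 1 := by
    obtain ⟨k, rfl⟩ := hE
    rw [pow_mul, ha4, one_pow]
  have ha0 : a ≠ 0 := by
    rintro rfl
    simp at ha4
  have ha1 : a ≠ 1 := by
    rintro rfl
    rw [orderOf_one] at ha
    norm_num at ha
  intro hle
  have h01 : (⟨0, by omega⟩ : Fin n) ≠ ⟨1, by omega⟩ := by
    intro h
    exact absurd (congrArg Fin.val h) (by norm_num)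
  obtain ⟨b, hb⟩ := D.exists_two h01 haE ha0
  obtain ⟨c, hc⟩ := D.cen b (hle ⟨_, hb, fun m => by
    split_ifs
    · exact ha4
    · rw [inv_pow, ha4, inv_one]
    · exact one_pow _⟩)
  have h1 := Matrix.diagonal_injective (hb.symm.trans hc)
  have h2 := congrFun h1 ⟨0, by omega⟩
  have h3 := congrFun h1 ⟨2, by omega⟩
  rw [if_pos rfl] at h2
  rw [if_neg (fun h => absurd (congrArg Fin.val h) (by norm_num)),
    if_neg (fun h => absurd (congrArg Fin.val h) (by norm_num))] at h3
  exact ha1 (h2.trans h3.symm)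

/-- **the cyclic case** -/
theorem noTwo_zpowers {X : Type*} [Group X] [Finite X] {K V : Type*} [Field K] [AddCommGroup V] [Module K V]
    (ρ : X →* End K V) {z : X} {T N δ : K} (h2K : (2 : K) ≠ 0) (hT : T ^ 2 = 2 * N) (hN : N ^ 2 = 1) (hδ : δ ^ 2 = 1)
    (hz : ∀ (v : V) (s : K), v ≠ 0 → ρ z v = s • v → (s ^ 2 - T * s + N) * (s - δ) = 0) :
    NoTwo ρ (zpowers z) := by
  have hN0 : N ≠ 0 := by
    rintro rfl
    norm_num at hN
  have hT0 : T ≠ 0 := by
    rintro rfl
    apply mul_ne_zero h2K hN0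
    rw [← hT]
    norm_num
  intro v w hv hw hall
  obtain ⟨s, t, hs, ht, hst⟩ := hall z (mem_zpowers z)
  have e1 := hz v s hv hs
  have e2 := hz w t hw ht
  -- a root of the quadratic factor does not have the square one
  have nq : ∀ s : K, s ^ 2 - T * s + N = 0 → s ^ 2 ≠ 1 := by
    intro s h1 h2
    have h3 : T * s = 1 + N := by linear_combination -h1 + h2
    have h4 : 2 * N = 2 + 2 * N := by
      calc 2 * N = T ^ 2 * s ^ 2 := by rw [hT, h2, mul_one]
        _ = (T * s) ^ 2 := by ring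
        _ = (1 + N) ^ 2 := by rw [h3]
        _ = 2 + 2 * N := by linear_combination hN
    apply h2K
    linear_combination -h4
  have hst' : s = t := by
    rcases mul_eq_zero.1 e1 with h1 | h1
    · rcases mul_eq_zero.1 e2 with h2 | h2
      · have h3 : T * (s - t) = 0 := by linear_combination h2 - h1 + hst
        exact sub_eq_zero.1 ((mul_eq_zero.1 h3).resolve_left hT0)
      · exfalso
        apply nq s h1
        rw [hst, sub_eq_zero.1 h2, hδ]
    · rcases mul_eq_zero.1 e2 with h2 | h2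
      · exfalso
        apply nq t h2
        rw [← hst, sub_eq_zero.1 h1, hδ]
      · rw [sub_eq_zero.1 h1, sub_eq_zero.1 h2]
  subst hst'
  have hpow : ∀ (k : ℕ) (v : V), ρ z v = s • v → ρ (z ^ k) v = s ^ k • v := by
    intro k v hv
    induction k with
    | zero => rw [pow_zero, pow_zero, map_one, one_smul]; rfl
    | succ k ih => rw [pow_succ, map_mul, Module.End.mul_apply, hv, map_smul, ih, smul_smul, pow_succ, mul_comm]
  intro b hb s' t' hs' ht'
  obtain ⟨k, rfl⟩ := (mem_powers_iff_mem_zpowers.2 hb : b ∈ Submonoid.powers z)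
  have h1 : (s' - s ^ k) • v = 0 := by
    rw [sub_smul, ← hs', ← hpow k v hs, sub_self]
  have h2 : (t' - s ^ k) • w = 0 := by
    rw [sub_smul, ← ht', ← hpow k w ht, sub_self]
  rw [sub_eq_zero.1 ((smul_eq_zero.1 h1).resolve_right hv), sub_eq_zero.1 ((smul_eq_zero.1 h2).resolve_right hw)]

end Cfsg.Agent.H205.RM
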