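import Mathlib
import Cfsg.Agent.H205.RM.Lin

/-!
# S3849: `RowM` for groups of matrices, `2 ∈ π`, `3 ∉ π`: main theorem (helper205)
-/

set_option autoImplicit false

namespace Cfsg.Agent.H205.RM

open Matrix Subgroup Cfsg Cfsg.Agent.H988.CPi Cfsg.Agent.H571.DExt Cfsg.Agent.H571.RV Cfsg.Agent.H571.RM
  Cfsg.Agent.Solvable.SZ Module
open scoped Pointwise

universe u

open Polynomial in
theorem poly_eight {F : Type*} [Field F] {T N δ : F} (hT : T ^ 2 = 2 * N) (hN : N ^ 2 = 1) (hδ : δ ^ 2 = 1) :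
    (X ^ 8 - 1 : F[X]) = ((X ^ 2 - C T * X + C N) * (X - C δ)) *
      ((X ^ 2 + C T * X + C N) * (X + C δ) * (X ^ 2 + 1)) := by
  have e1 : (C T ^ 2 : F[X]) = 2 * C N := by
    rw [← C_pow, hT, C_mul]; rfl
  have e2 : (C N ^ 2 : F[X]) = 1 := by rw [← C_pow, hN, C_1]
  have e3 : (C δ ^ 2 : F[X]) = 1 := by rw [← C_pow, hδ, C_1]
  have e4 : (X ^ 2 - C T * X + C N) * (X ^ 2 + C T * X + C N) = (X ^ 4 + 1 : F[X]) := by
    linear_combination (-X ^ 2) * e1 + e2
  have e5 : (X - C δ) * (X + C δ) = (X ^ 2 - 1 : F[X]) := by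
    linear_combination -e3
  calc (X ^ 8 - 1 : F[X]) = (X ^ 4 + 1) * ((X ^ 2 - 1) * (X ^ 2 + 1)) := by ring
    _ = _ := by rw [← e4, ← e5]; ring

variable {X : Type*} [Group X] {n : ℕ} {F : Type*} [Field F] {E : ℕ}

theorem perm_diag (σ : Equiv.Perm (Fin n)) (d : Fin n → F) :
    σ.permMatrix F * diagonal d = diagonal (fun i => d (σ i)) * σ.permMatrix F := by
  ext i k
  rw [Equiv.Perm.permMatrix, PEquiv.toMatrix_toPEquiv_mul, PEquiv.mul_toMatrix_toPEquiv, submatrix_apply,
    submatrix_apply, diagonal_apply, diagonal_apply, id, id]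
  by_cases h : σ i = k
  · rw [if_pos h, if_pos (by rw [← h, Equiv.symm_apply_apply])]
  · rw [if_neg h, if_neg (fun h' => h (by rw [h', Equiv.apply_symm_apply]))]

theorem MD.cancel (D : MD X n F E) (s : X) {A B : Matrix (Fin n) (Fin n) F} (h : A * D.j s = B * D.j s) : A = B := by
  have h1 : D.j s * D.j s⁻¹ = 1 := by rw [← map_mul, mul_inv_cancel, map_one]
  calc A = A * D.j s * D.j s⁻¹ := by rw [Matrix.mul_assoc, h1, Matrix.mul_one]
    _ = B * D.j s * D.j s⁻¹ := by rw [h]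
    _ = B := by rw [Matrix.mul_assoc, h1, Matrix.mul_one]

/-- a `t`-subgroup whose image is not abelian -/
theorem MD.exists_nonab (D : MD X n F E) {S : Type*} [Group S] (f : X →* S) (hker : f.ker ≤ Subgroup.center X)
    (hn : 0 < n) {t : ℕ} (ht : t.Prime) (h5 : 5 ≤ t) (htn : t ∣ n) (htE : t ∣ E) :
    ∃ Q : Subgroup X, IsPGroup t Q ∧ ∃ x ∈ Q, ∃ y ∈ Q, f (x * y) ≠ f (y * x) := by
  have : Fact t.Prime := ⟨ht⟩
  obtain ⟨σ, hσ⟩ := exists_prime_orderOf_dvd_card' (G := Equiv.Perm (Fin n)) t (by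
    rw [Nat.card_perm, Nat.card_eq_fintype_card, Fintype.card_fin]
    exact (Nat.Prime.dvd_factorial ht).2 (Nat.le_of_dvd hn htn))
  have hσt : σ ^ t = 1 := by rw [← hσ]; exact pow_orderOf_eq_one σ
  have hσ1 : σ ≠ 1 := by
    rintro rfl
    rw [orderOf_one] at hσ
    omega
  obtain ⟨i, hi⟩ : ∃ i, σ i ≠ i := by
    by_contra h
    push Not at h
    exact hσ1 (Equiv.ext h)
  have hodd : Odd t := ht.odd_of_ne_two (by omega)
  have hsign : Equiv.Perm.sign σ = 1 := by
    have h1 : Equiv.Perm.sign σ ^ t = 1 := by rw [← map_pow, hσt, map_one]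
    rcases Int.units_eq_one_or (Equiv.Perm.sign σ) with h | h
    · exact h
    · rw [h, hodd.neg_one_pow] at h1
      exact absurd h1 (by decide)
  -- the period of `i`
  have hper : ∀ k : ℕ, k.Coprime t → ∀ l, (σ ^ k) l = l → σ l = l := by
    intro k hk l hl
    have h1 : Function.IsPeriodicPt σ k l := by
      rw [Function.IsPeriodicPt, Function.IsFixedPt, ← Equiv.Perm.coe_pow]
      exact hl
    have h2 : Function.IsPeriodicPt σ t l := by
      rw [Function.IsPeriodicPt, Function.IsFixedPt, ← Equiv.Perm.coe_pow, hσt]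
      rfl
    have h3 := h1.gcd h2
    rw [hk] at h3
    exact h3
  have h2t : Nat.Coprime 2 t := (Nat.coprime_primes Nat.prime_two ht).2 (by omega)
  have h3t : Nat.Coprime 3 t := (Nat.coprime_primes Nat.prime_three ht).2 (by omega)
  have n02 : σ (σ i) ≠ i := fun h => hi (hper 2 h2t i (by rw [pow_two]; exact h))
  have n03 : σ (σ (σ i)) ≠ i := fun h => hi (hper 3 h3t i (by rw [pow_succ, pow_two]; exact h))
  have n12 : σ (σ i) ≠ σ i := fun h => hi (σ.injective h)
  have n13 : σ (σ (σ i)) ≠ σ i := fun h => n02 (σ.injective h)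
  obtain ⟨s, hs⟩ := D.perm σ hsign
  obtain ⟨ω, hω⟩ := D.tor t htE
  have hωt : ω ^ t = 1 := by rw [← hω]; exact pow_orderOf_eq_one ω
  have hωE : ω ^ E = 1 := by
    obtain ⟨k, rfl⟩ := htE
    rw [pow_mul, hωt, one_pow]
  have hω0 : ω ≠ 0 := by
    rintro rfl
    rw [zero_pow ht.ne_zero] at hωt
    exact zero_ne_one hωt
  obtain ⟨x, hx⟩ := D.exists_two (Ne.symm hi) hωE hω0
  have hxD : x ∈ D.dg t := ⟨_, hx, fun m => by
    split_ifs
    · exact hωt
    · rw [inv_pow, hωt, inv_one]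
    · exact one_pow _⟩
  have hst : s ^ t = 1 := by
    apply D.inj
    have h1 : ∀ k : ℕ, D.j s ^ k = (σ ^ k).permMatrix F := by
      intro k
      induction k with
      | zero => rw [pow_zero, pow_zero, Matrix.permMatrix_one]
      | succ k ih => rw [pow_succ, ih, hs, ← Matrix.permMatrix_mul, ← pow_succ']
    rw [map_pow, h1, hσt, map_one, Matrix.permMatrix_one]
  have hnorm : ∀ y ∈ D.dg t, s * y * s⁻¹ ∈ D.dg t := by
    rintro y ⟨d, hd, hd'⟩
    refine ⟨fun l => d (σ l), ?_, fun l => hd' (σ l)⟩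
    apply D.cancel s
    rw [← map_mul, inv_mul_cancel_right, map_mul, hs, hd, perm_diag]
  have hnorm' : zpowers s ≤ normalizer (D.dg t : Set X) := by
    rw [zpowers_le]
    have h1 : ∀ k : ℕ, ∀ y ∈ D.dg t, s ^ k * y * (s ^ k)⁻¹ ∈ D.dg t := by
      intro k
      induction k with
      | zero => intro y hy; simpa using hy
      | succ k ih =>
        intro y hy
        have h2 := ih _ (hnorm y hy)
        have h3 : s ^ (k + 1) * y * (s ^ (k + 1))⁻¹ = s ^ k * (s * y * s⁻¹) * (s ^ k)⁻¹ := by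
          rw [pow_succ]; group
        rw [h3]; exact h2
    rw [mem_normalizer_iff]
    intro y
    refine ⟨hnorm y, fun hy => ?_⟩
    have h2 := h1 (t - 1) _ hy
    have h3 : s ^ (t - 1) * (s * y * s⁻¹) * (s ^ (t - 1))⁻¹ = y := by
      have h4 : s ^ (t - 1) * s = 1 := by rw [← pow_succ, Nat.sub_add_cancel ht.one_le, hst]
      calc s ^ (t - 1) * (s * y * s⁻¹) * (s ^ (t - 1))⁻¹ = s ^ (t - 1) * s * y * (s ^ (t - 1) * s)⁻¹ := by group
        _ = y := by rw [h4]; group
    rwa [h3] at h2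
  have hsP : IsPGroup t (zpowers s) := by
    rintro ⟨y, hy⟩
    obtain ⟨k, rfl⟩ := mem_zpowers_iff.1 hy
    refine ⟨1, Subtype.ext ?_⟩
    change (s ^ k) ^ t ^ 1 = 1
    rw [pow_one, ← zpow_natCast, ← _root_.zpow_mul, mul_comm, _root_.zpow_mul, zpow_natCast, hst, _root_.one_zpow]
  have hdP : IsPGroup t (D.dg t) := by
    have h1 := D.dg_pgroup (t := t) 1
    rwa [pow_one] at h1
  refine ⟨zpowers s ⊔ D.dg t, hsP.to_sup_of_normal_right' hdP hnorm', s, mem_sup_left (mem_zpowers s), x,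
    mem_sup_right hxD, ?_⟩
  intro hf
  have h1 : (x * s)⁻¹ * (s * x) ∈ f.ker := by
    rw [MonoidHom.mem_ker, map_mul, map_inv, ← hf, inv_mul_cancel]
  obtain ⟨c, hc⟩ := D.cen _ (hker h1)
  set w := (x * s)⁻¹ * (s * x) with hw
  have h2 : s * x = x * s * w := by rw [hw]; group
  have h3 := congrArg D.j h2
  rw [map_mul, map_mul, map_mul, hc, hs, hx, perm_diag, Matrix.mul_assoc, perm_diag, ← Matrix.mul_assoc,
    diagonal_mul_diagonal, ← hs] at h3
  have h4 := Matrix.diagonal_injective (D.cancel s h3)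
  have e1 := congrFun h4 (σ (σ i))
  have e2 := congrFun h4 (σ i)
  simp only [if_neg n02, if_neg n03, if_neg n12, if_neg n13, one_mul] at e1
  simp only [if_neg n02, if_neg n12, if_neg hi, if_pos, ← e1, mul_one] at e2
  have e3 : ω = 1 := by
    rw [← inv_inv ω, ← e2, inv_one]
  rw [e3, orderOf_one] at hω
  omega

/-- the eigenvalues of a matrix with a polynomial identity -/
theorem eig_of_rel (D : MD X n F E) (K : Type*) [Field K] [Algebra F K] {z : X} {T N δ : F}
    (hz : (D.j z * D.j z - T • D.j z + N • 1) * (D.j z - δ • 1) = 0) (v : Fin n → K) (s : K) (hv : v ≠ 0)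
    (hs : D.rho K z v = s • v) :
    (s ^ 2 - algebraMap F K T * s + algebraMap F K N) * (s - algebraMap F K δ) = 0 := by
  rw [D.rho_apply] at hs
  set M := (D.j z).map (algebraMap F K) with hM
  have h1 : (M * M - algebraMap F K T • M + algebraMap F K N • 1) * (M - algebraMap F K δ • 1) = 0 := by
    have h2 := congrArg (fun B : Matrix (Fin n) (Fin n) F => (algebraMap F K).mapMatrix B) hz
    simp only [map_mul, map_sub, map_add, map_zero, RingHom.mapMatrix_apply] at h2
    rw [Matrix.map_smul' _ _ _ (map_mul _), Matrix.map_smul' _ _ _ (map_mul _), Matrix.map_smul' _ _ _ (map_mul _),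
      Matrix.map_one _ (map_zero _) (map_one _)] at h2
    exact h2
  have h2 := congrArg (fun B => B *ᵥ v) h1
  simp only [Matrix.zero_mulVec] at h2
  rw [← Matrix.mulVec_mulVec, Matrix.sub_mulVec, hs, Matrix.smul_mulVec, Matrix.one_mulVec, ← sub_smul,
    Matrix.mulVec_smul, Matrix.add_mulVec, Matrix.sub_mulVec, ← Matrix.mulVec_mulVec, hs, Matrix.mulVec_smul, hs,
    Matrix.smul_mulVec, hs, Matrix.smul_mulVec, Matrix.one_mulVec] at h2
  have h3 : ((s ^ 2 - algebraMap F K T * s + algebraMap F K N) * (s - algebraMap F K δ)) • v = 0 := by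
    rw [← h2]
    simp only [smul_smul, ← add_smul, ← sub_smul]
    congr 1
    ring
  exact (smul_eq_zero.1 h3).resolve_right hv

theorem pow_eight (D : MD X n F E) {z : X} {T N δ : F} (hT : T ^ 2 = 2 * N) (hN : N ^ 2 = 1) (hδ : δ ^ 2 = 1)
    (hz : (D.j z * D.j z - T • D.j z + N • 1) * (D.j z - δ • 1) = 0) : z ^ 8 = 1 := by
  apply D.inj
  rw [map_pow, map_one]
  set M := D.j z with hM
  have h1 : Polynomial.aeval M (((Polynomial.X ^ 2 - Polynomial.C T * Polynomial.X + Polynomial.C N) *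
      (Polynomial.X - Polynomial.C δ)) : Polynomial F) = 0 := by
    rw [map_mul, map_add, map_sub, map_sub, map_mul, map_pow, Polynomial.aeval_X, Polynomial.aeval_C,
      Polynomial.aeval_C, Polynomial.aeval_C,
      Algebra.algebraMap_eq_smul_one, Algebra.algebraMap_eq_smul_one, Algebra.algebraMap_eq_smul_one, smul_mul_assoc,
      Matrix.one_mul, pow_two]
    exact hz
  have h2 := poly_eight hT hN hδ
  have h3 : Polynomial.aeval M (Polynomial.X ^ 8 - 1 : Polynomial F) = 0 := by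
    rw [h2, map_mul, h1, zero_mul]
  rw [map_sub, map_pow, Polynomial.aeval_X, map_one, sub_eq_zero] at h3
  exact h3

/-- **`RowM` for groups of matrices** -/
theorem rowM_of_md [Finite X] {π : Set ℕ} {S : Type u} [Group S] [Finite S] [IsSimpleGroup S] {H A : Subgroup S}
    (hna : ∃ a b : S, a * b ≠ b * a) (d : HA π 2 H A) (h2π : 2 ∈ π) (h3π : 3 ∉ π) {p : ℕ} [Fact p.Prime] [CharP F p]
    (hpπ : p ∉ π) (D : MD X n F E) (hn : 3 ≤ n) (f : X →* S) (hf : Function.Surjective f)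
    (hker : f.ker = Subgroup.center X)
    (hZ : ∀ t : ℕ, t.Prime → t ∣ Nat.card (Subgroup.center X) → t ∣ n ∧ t ∣ E)
    (hcyc : ¬ 4 ∣ E → ∃ (z : X) (T N δ : F), T ^ 2 = 2 * N ∧ N ^ 2 = 1 ∧ δ ^ 2 = 1 ∧
      (D.j z * D.j z - T • D.j z + N • 1) * (D.j z - δ • 1) = 0 ∧ z ∉ Subgroup.center X) : RowM π S := by
  have hp : p.Prime := Fact.out
  let K := AlgebraicClosure F
  have : CharP K p := charP_of_injective_algebraMap (algebraMap F K).injective p
  have h2K : (2 : K) ≠ 0 := by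
    intro h
    have h1 : ((2 : ℕ) : K) = 0 := by exact_mod_cast h
    rw [CharP.cast_eq_zero_iff K p] at h1
    rw [(Nat.prime_dvd_prime_iff_eq hp Nat.prime_two).1 h1] at hpπ
    exact hpπ h2π
  have hAK : (Nat.card A : K) ≠ 0 := by
    intro h
    rw [CharP.cast_eq_zero_iff K p] at h
    exact hpπ (d.hall.1 p hp (h.trans (card_dvd_of_le d.ale)))
  have hcop : (Nat.card A).Coprime (Nat.card f.ker) := by
    refine coprime_of_nonabelian f d fun t ht htπ ht2 htd => ?_
    rw [hker] at htd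
    obtain ⟨h1, h2⟩ := hZ t ht htd
    refine D.exists_nonab f hker.le (by omega) ht ?_ h1 h2
    have h3 : t ≠ 3 := by rintro rfl; exact h3π htπ
    have h4 : t ≠ 4 := by rintro rfl; exact absurd ht (by norm_num)
    have h5 := ht.two_le
    omega
  by_cases hE : 4 ∣ E
  · refine rowM_of_cover f (D.rho K) hna d h2π hf hker.le hcop (D.rho_inj K) h2K hAK D.dg_comm ?_ ?_
      (D.noTwo_dg hn hE K h2K)
    · exact D.dg_pgroup (t := 2) 2
    · rw [hker]; exact D.not_cen hn hE
  · obtain ⟨z, T, N, δ, hT, hN, hδ, hz, hzc⟩ := hcyc hE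
    have hz8 := pow_eight D hT hN hδ hz
    refine rowM_of_cover f (D.rho K) (B := zpowers z) hna d h2π hf hker.le hcop (D.rho_inj K) h2K hAK ?_ ?_ ?_
      (noTwo_zpowers (D.rho K) (T := algebraMap F K T) (N := algebraMap F K N) (δ := algebraMap F K δ) h2K ?_ ?_ ?_
        (fun v s hv hs => eig_of_rel D K hz v s hv hs))
    · rintro x ⟨k, rfl⟩ y ⟨l, rfl⟩
      change z ^ k * z ^ l = z ^ l * z ^ k
      rw [← _root_.zpow_add, ← _root_.zpow_add, add_comm]
    · rintro ⟨y, hy⟩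
      obtain ⟨k, rfl⟩ := mem_zpowers_iff.1 hy
      refine ⟨3, Subtype.ext ?_⟩
      change (z ^ k) ^ 2 ^ 3 = 1
      rw [← zpow_natCast, ← _root_.zpow_mul, mul_comm, _root_.zpow_mul, zpow_natCast]
      norm_num [hz8]
    · intro hle
      rw [hker] at hle
      exact hzc (hle (mem_zpowers z))
    · rw [← map_pow, hT, map_mul, map_ofNat]
    · rw [← map_pow, hN, map_one]
    · rw [← map_pow, hδ, map_one]

end Cfsg.Agent.H205.RM
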