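import Mathlib
import Cfsg.Agent.H205.RM.Main
import Cfsg.Agent.H554.RV.Uni
import Cfsg.Agent.H93.PslCharpoly
import Cfsg.Agent.S0279
import Cfsg.Agent.LieClassical.SUBasic

/-!
# S3849: `RowM` for `PSL_n(q)`, `PSU_n(q)`, `n ≥ 3`, `q` odd, `2 ∈ π`, `3 ∉ π` (helper205)

`rowM_psl`, `rowM_psu` (from the data `HA π 2 H A`), `rowM_psl_of_ftwo`, `rowM_psu_of_ftwo`.
-/

set_option autoImplicit false

namespace Cfsg.Agent.H205.RM

open Matrix Cfsg Cfsg.Agent.H988.CPi Cfsg.Agent.H571.DExt Cfsg.Agent.H571.RV Cfsg.Agent.H571.RM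
  Cfsg.Agent.Solvable.SZ Module
open Cfsg.Agent.H554.RV (bm Em Rm bm_mul det_bm RE_one slM suM mem_SU_of uni_block)
open Cfsg.Agent.LieClassical.HermBasic
open scoped Pointwise

universe u

section mats

variable {F : Type*} [Field F]

/-- the three-dimensional matrix -/
def m3 (h : F) : Matrix (Fin 3) (Fin 3) F := !![h, h, 0; -h, h, 0; 0, 0, 2 * h ^ 2]

/-- the four-dimensional matrix -/
def m4 (h : F) : Matrix (Fin 4) (Fin 4) F := !![h, h, 0, 0; -h, h, 0, 0; 0, 0, h, h; 0, 0, -h, h]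

theorem det_m3 {h : F} (h1 : (2 * h ^ 2) ^ 2 = 1) : (m3 h).det = 1 := by
  rw [m3, Matrix.det_fin_three]
  simp
  linear_combination h1

theorem det_m4 {h : F} (h1 : (2 * h ^ 2) ^ 2 = 1) : (m4 h).det = 1 := by
  have e : m4 h = !![h, h, 0, 0; -h, h, 0, 0; 0, 0, h, h; 0, 0, -h, h] := rfl
  rw [e, Matrix.det_succ_row_zero]
  simp [Fin.sum_univ_succ, Matrix.det_fin_three, Matrix.submatrix, Fin.succAbove]
  linear_combination h1

theorem rel_m3 (h : F) : (m3 h * m3 h - (2 * h) • m3 h + (2 * h ^ 2) • 1) * (m3 h - (2 * h ^ 2) • 1) = 0 := by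
  have e : m3 h * m3 h - (2 * h) • m3 h + (2 * h ^ 2) • 1 =
      !![0, 0, 0; 0, 0, 0; 0, 0, (2 * h ^ 2) * (2 * h ^ 2) - (2 * h) * (2 * h ^ 2) + 2 * h ^ 2] := by
    ext i j
    fin_cases i <;> fin_cases j <;> simp [m3, Matrix.mul_apply, Fin.sum_univ_three] <;> ring
  have e' : m3 h - (2 * h ^ 2) • 1 = !![h - 2 * h ^ 2, h, 0; -h, h - 2 * h ^ 2, 0; 0, 0, 0] := by
    ext i j
    fin_cases i <;> fin_cases j <;> simp [m3]
  rw [e, e']
  ext i j
  fin_cases i <;> fin_cases j <;> simp [Matrix.mul_apply, Fin.sum_univ_three]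

theorem rel_m4 (h : F) : m4 h * m4 h - (2 * h) • m4 h + (2 * h ^ 2) • 1 = 0 := by
  ext i j
  fin_cases i <;> fin_cases j <;> simp [m4, Matrix.mul_apply, Fin.sum_univ_four] <;> ring

theorem rel_bm {n m : ℕ} {e : Fin m → Fin n} (he : Function.Injective e) {A : Matrix (Fin m) (Fin m) F} {T N : F}
    (hA : A * A - T • A + N • 1 = 0) :
    (bm e A * bm e A - T • bm e A + N • 1) * (bm e A - (1 : F) • 1) = 0 := by
  have h1 : bm e A * bm e A - T • bm e A + N • 1 = (1 - T + N) • (1 - Em F e * Rm F e) := by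
    have h2 : A * A = T • A - N • 1 := by
      have : A * A - (T • A - N • 1) = 0 := by rw [← hA]; abel
      exact sub_eq_zero.1 this
    have h3 : A * A - 1 = T • (A - 1) - (1 - T + N) • 1 := by
      rw [h2, smul_sub, add_smul, sub_smul, one_smul]
      abel
    rw [bm_mul he, bm, bm, h3, Matrix.mul_sub, Matrix.sub_mul, Matrix.mul_smul, Matrix.mul_smul, Matrix.mul_one,
      Matrix.smul_mul, Matrix.smul_mul, smul_add, smul_sub]
    module
  have h4 : bm e A - (1 : F) • 1 = Em F e * (A - 1) * Rm F e := by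
    rw [one_smul, bm, add_sub_cancel_left]
  rw [h1, h4, Matrix.smul_mul, Matrix.sub_mul, Matrix.one_mul]
  have h5 : Em F e * Rm F e * (Em F e * (A - 1) * Rm F e) = Em F e * (A - 1) * Rm F e := by
    calc Em F e * Rm F e * (Em F e * (A - 1) * Rm F e) = Em F e * (Rm F e * Em F e) * (A - 1) * Rm F e := by
          simp only [Matrix.mul_assoc]
      _ = _ := by rw [RE_one he, Matrix.mul_one]
  rw [h5, sub_self, smul_zero]

theorem bm_ne {n m : ℕ} {e : Fin m → Fin n} (he : Function.Injective e) {A : Matrix (Fin m) (Fin m) F}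
    {c : F} (h : bm e A = diagonal fun _ => c) : A = diagonal fun _ => c := by
  have h1 : Rm F e * bm e A * Em F e = A := by
    rw [bm, Matrix.mul_add, Matrix.add_mul, Matrix.mul_one, RE_one he]
    have h2 : Rm F e * (Em F e * (A - 1) * Rm F e) * Em F e = A - 1 := by
      calc Rm F e * (Em F e * (A - 1) * Rm F e) * Em F e = (Rm F e * Em F e) * (A - 1) * (Rm F e * Em F e) := by
            simp only [Matrix.mul_assoc]
        _ = _ := by rw [RE_one he, Matrix.one_mul, Matrix.mul_one]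
    rw [h2, add_sub_cancel]
  have h3 : ∀ k : ℕ, (diagonal fun _ : Fin k => c) = c • (1 : Matrix (Fin k) (Fin k) F) := by
    intro k
    rw [Matrix.smul_one_eq_diagonal]
  rw [h, h3, Matrix.mul_smul, Matrix.mul_one, Matrix.smul_mul, RE_one he] at h1
  rw [h3, h1]

/-- the element for the cyclic case -/
theorem exists_cyc {X : Type*} [Group X] {n E : ℕ} (D : MD X n F E) (hn : 3 ≤ n) {h : F} (h1 : (2 * h ^ 2) ^ 2 = 1)
    (hz3 : ∀ hn3 : n = 3, ∃ z, D.j z = (m3 h).submatrix (Fin.cast hn3) (Fin.cast hn3))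
    (hz4 : ∀ hn4 : 4 ≤ n, ∃ z, D.j z = bm (Fin.castLE hn4) (m4 h)) :
    ∃ (z : X) (T N δ : F), T ^ 2 = 2 * N ∧ N ^ 2 = 1 ∧ δ ^ 2 = 1 ∧
      (D.j z * D.j z - T • D.j z + N • 1) * (D.j z - δ • 1) = 0 ∧ z ∉ Subgroup.center X := by
  have h0 : h ≠ 0 := by
    rintro rfl
    norm_num at h1
  rcases Nat.eq_or_lt_of_le hn with h3 | h4
  · subst h3
    obtain ⟨z, hz⟩ := hz3 rfl
    have hz' : D.j z = m3 h := by rw [hz]; rfl
    refine ⟨z, 2 * h, 2 * h ^ 2, 2 * h ^ 2, by ring, h1, h1, by rw [hz']; exact rel_m3 h, ?_⟩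
    intro hc
    obtain ⟨c, hc⟩ := D.cen z hc
    have e1 := congrFun (congrFun (hz'.symm.trans hc) 0) 1
    rw [diagonal_apply_ne _ (by decide)] at e1
    exact h0 (by simpa [m3] using e1)
  · obtain ⟨z, hz⟩ := hz4 h4
    refine ⟨z, 2 * h, 2 * h ^ 2, 1, by ring, h1, one_pow 2, by
      rw [hz]; exact rel_bm (Fin.castLE_injective _) (rel_m4 h), ?_⟩
    intro hc
    obtain ⟨c, hc⟩ := D.cen z hc
    have e1 := congrFun (congrFun (bm_ne (Fin.castLE_injective _) (hz.symm.trans hc)) 0) 1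
    rw [diagonal_apply_ne _ (by decide)] at e1
    exact h0 (by simpa [m4] using e1)

/-- roots of unity -/
theorem exists_orderOf [Finite F] {t : ℕ} (ht : t ∣ Nat.card F - 1) : ∃ ω : F, orderOf ω = t := by
  obtain ⟨g, hg⟩ := IsCyclic.exists_ofOrder_eq_natCard (α := Fˣ)
  rw [Nat.card_units] at hg
  have h1 : orderOf (g ^ (orderOf g / t)) = t := orderOf_pow_orderOf_div (orderOf_pos g).ne' (hg ▸ ht)
  exact ⟨((g ^ (orderOf g / t) : Fˣ) : F), by rw [orderOf_units, h1]⟩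

theorem odd_card [Finite F] {p : ℕ} [hp : Fact p.Prime] [CharP F p] (hp2 : p ≠ 2) : Odd (Nat.card F) := by
  have : Fintype F := Fintype.ofFinite F
  obtain ⟨k, hk, hc⟩ := FiniteField.card F p
  rw [Nat.card_eq_fintype_card, hc]
  exact (hp.out.odd_of_ne_two hp2).pow

end mats

section sl

variable {F : Type*} [Field F] [Finite F] {n : ℕ}

/-- `SL_n(F)` -/
def mdSL (n : ℕ) (F : Type*) [Field F] [Finite F] : MD (SpecialLinearGroup (Fin n) F) n F (Nat.card F - 1) where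
  j := slM n F
  inj := fun _ _ h => Subtype.ext h
  cen := fun x hx => by
    obtain ⟨c, -, hc⟩ := Matrix.SpecialLinearGroup.mem_center_iff.1 hx
    exact ⟨c, hc.symm⟩
  diag := fun d _ hd => ⟨⟨diagonal d, by rw [det_diagonal, hd]⟩, rfl⟩
  perm := fun σ hσ => ⟨⟨σ.permMatrix F, by rw [Matrix.det_permutation, hσ]; simp⟩, rfl⟩
  tor := fun t ht => exists_orderOf ht

theorem exists_h_sl {p : ℕ} [hp : Fact p.Prime] [CharP F p] (hp2 : p ≠ 2) (h4 : ¬ 4 ∣ Nat.card F - 1) :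
    ∃ h : F, (2 * h ^ 2) ^ 2 = 1 := by
  have : Fintype F := Fintype.ofFinite F
  have hodd := odd_card (F := F) hp2
  have h2 : (2 : F) ≠ 0 := by
    intro h
    have h1 : ((2 : ℕ) : F) = 0 := by exact_mod_cast h
    rw [CharP.cast_eq_zero_iff F p] at h1
    exact hp2 ((Nat.prime_dvd_prime_iff_eq hp.out Nat.prime_two).1 h1)
  have h8 : IsSquare (2 : F) ∨ IsSquare (-2 : F) := by
    rw [FiniteField.isSquare_two_iff, FiniteField.isSquare_neg_two_iff, ← Nat.card_eq_fintype_card]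
    rw [Nat.odd_iff] at hodd
    omega
  rcases h8 with ⟨c, hc⟩ | ⟨c, hc⟩
  · have hc0 : c ≠ 0 := by
      rintro rfl
      rw [mul_zero] at hc
      exact h2 hc
    refine ⟨c⁻¹, ?_⟩
    have h5 : 2 * c⁻¹ ^ 2 = 1 := by
      rw [hc]
      field_simp
    rw [h5, one_pow]
  · have hc0 : c ≠ 0 := by
      rintro rfl
      rw [mul_zero, neg_eq_zero] at hc
      exact h2 hc
    refine ⟨c⁻¹, ?_⟩
    have h5 : 2 * c⁻¹ ^ 2 = -1 := by
      have h6 : (2 : F) = -(c * c) := by rw [← hc, neg_neg]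
      rw [h6]
      field_simp
    rw [h5]
    norm_num

/-- **`PSL_n(q)`, `n ≥ 3`, `q` odd** -/
theorem rowM_psl {π : Set ℕ} {S : Type u} [Group S] [Finite S] [IsSimpleGroup S] {H A : Subgroup S}
    (hna : ∃ a b : S, a * b ≠ b * a) (d : HA π 2 H A) (h2π : 2 ∈ π) (h3π : 3 ∉ π) {p : ℕ} (hp : p.Prime)
    (hpπ : p ∉ π) [CharP F p] (hn : 3 ≤ n) (e : S ≃* ProjectiveSpecialLinearGroup (Fin n) F) : RowM π S := by
  have : Fact p.Prime := ⟨hp⟩
  have hp2 : p ≠ 2 := by rintro rfl; exact hpπ h2π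
  let f : SpecialLinearGroup (Fin n) F →* S :=
    e.symm.toMonoidHom.comp (QuotientGroup.mk' (Subgroup.center (SpecialLinearGroup (Fin n) F)))
  have hker : f.ker = Subgroup.center (SpecialLinearGroup (Fin n) F) := by
    ext x
    rw [MonoidHom.mem_ker]
    change e.symm (QuotientGroup.mk' _ x) = 1 ↔ _
    rw [MulEquiv.map_eq_one_iff]
    exact QuotientGroup.eq_one_iff x
  refine rowM_of_md hna d h2π h3π hpπ (mdSL n F) hn f ?_ hker ?_ ?_
  · exact e.symm.surjective.comp (QuotientGroup.mk'_surjective _)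
  · intro t _ htd
    rw [Cfsg.Agent.H93.PslCharpoly.card_center n (by omega)] at htd
    exact ⟨htd.trans (Nat.gcd_dvd_left _ _), htd.trans (Nat.gcd_dvd_right _ _)⟩
  · intro h4
    obtain ⟨h, h1⟩ := exists_h_sl (F := F) hp2 h4
    refine exists_cyc (mdSL n F) hn h1 ?_ ?_
    · rintro rfl
      exact ⟨⟨m3 h, det_m3 h1⟩, rfl⟩
    · intro hn4
      exact ⟨⟨bm (Fin.castLE hn4) (m4 h), by rw [det_bm (Fin.castLE_injective _), det_m4 h1]⟩, rfl⟩

end sl

section su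

variable {F : Type*} [Field F] [Fintype F] {n q : ℕ}

/-- `SU_n(q)` -/
def mdSU (n : ℕ) {q : ℕ} (hF : Fintype.card F = q ^ 2) (hn : 3 ≤ n) : MD (SU n F q) n F (q + 1) where
  j := suM n F q
  inj := fun _ _ h => Cfsg.Agent.LieClassical.HermSiegel.mat_injective h
  cen := fun x hx => by
    obtain ⟨c, h1, h2, rfl⟩ := (Cfsg.Agent.LieClassical.SUBasic.mem_center_SU_iff hF hn x).1 hx
    exact ⟨c, rfl⟩
  diag := fun d hd1 hd => ⟨Cfsg.Agent.LieClassical.SUBasic.suDiag q d hd hd1, rfl⟩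
  perm := fun σ hσ => ⟨Cfsg.Agent.LieClassical.SUBasic.suPerm q σ hσ, rfl⟩
  tor := fun t ht => exists_orderOf (by
    rw [Nat.card_eq_fintype_card, hF]
    refine ht.trans ⟨q - 1, ?_⟩
    have := Nat.sq_sub_sq q 1
    simpa using this)

theorem exists_h_su {p : ℕ} [hp : Fact p.Prime] [CharP F p] (hp2 : p ≠ 2) (hF : Fintype.card F = q ^ 2)
    (h4 : ¬ 4 ∣ q + 1) : ∃ h : F, (2 * h ^ 2) ^ 2 = 1 ∧ 2 * h * h ^ q = 1 := by
  have hodd := odd_card (F := F) hp2
  rw [Nat.card_eq_fintype_card, hF] at hodd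
  have hqodd : Odd q := by
    rcases Nat.even_or_odd q with h | h
    · exact absurd hodd (by rw [Nat.not_odd_iff_even]; exact h.pow_of_ne_zero (by norm_num) )
    · exact h
  have h2 : (2 : F) ≠ 0 := by
    intro h
    have h1 : ((2 : ℕ) : F) = 0 := by exact_mod_cast h
    rw [CharP.cast_eq_zero_iff F p] at h1
    exact hp2 ((Nat.prime_dvd_prime_iff_eq hp.out Nat.prime_two).1 h1)
  obtain ⟨m, hm⟩ : ∃ m, q = 4 * m + 1 := by
    obtain ⟨k, hk⟩ := hqodd
    exact ⟨k / 2, by omega⟩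
  obtain ⟨z, hz⟩ := exists_orderOf (F := F) (t := 8) (by
    rw [Nat.card_eq_fintype_card, hF, hm]
    have h5 : (4 * m + 1) ^ 2 - 1 = 8 * (2 * m ^ 2 + m) := by
      have : (4 * m + 1) ^ 2 = 8 * (2 * m ^ 2 + m) + 1 := by ring
      omega
    rw [h5]
    exact dvd_mul_right _ _)
  have hz4 : z ^ 4 = -1 := by
    have h5 : z ^ 8 = 1 := by rw [← hz]; exact pow_orderOf_eq_one z
    have h6 : z ^ 4 ≠ 1 := by
      intro h
      have h7 := orderOf_dvd_of_pow_eq_one h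
      rw [hz] at h7
      norm_num at h7
    have h7 : (z ^ 4 - 1) * (z ^ 4 + 1) = 0 := by linear_combination h5
    rcases mul_eq_zero.1 h7 with h8 | h8
    · exact absurd (sub_eq_zero.1 h8) h6
    · linear_combination h8
  set i := z ^ 2 with hi
  have hi2 : i ^ 2 = -1 := by rw [hi, ← pow_mul, hz4]
  have hiq : i ^ q = i := by
    have h5 : i ^ 4 = 1 := by
      calc i ^ 4 = (i ^ 2) ^ 2 := by ring
        _ = 1 := by rw [hi2]; norm_num
    rw [hm, pow_add, pow_mul, h5, one_pow, one_mul, pow_one]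
  have hzq : z ^ q = (-1) ^ m * z := by
    rw [hm, pow_add, pow_mul, hz4, pow_one]
  have hc : (1 + i) ^ q = 1 + i := by
    have h5 : conj hF (1 + i) = 1 + conj hF i := by rw [map_add, map_one]
    have h6 : conj hF i = i := hiq
    rw [h6] at h5
    exact h5
  have hc2 : (1 + i) ^ 2 = 2 * i := by linear_combination hi2
  have hi0 : i ≠ 0 := by
    intro h
    rw [h] at hi2
    norm_num at hi2
  have hc0 : 1 + i ≠ 0 := by
    intro h
    rw [h] at hc2
    exact mul_ne_zero h2 hi0 (by rw [← hc2]; norm_num)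
  rcases Nat.even_or_odd m with hme | hmo
  · have h5 : 2 * (z / (1 + i)) ^ 2 = 1 := by
      rw [div_pow, hc2, ← hi]
      field_simp
    refine ⟨z / (1 + i), by rw [h5, one_pow], ?_⟩
    rw [div_pow, hc, hzq, hme.neg_one_pow, one_mul]
    linear_combination h5
  · have h5 : 2 * (z ^ 3 / (1 + i)) ^ 2 = -1 := by
      rw [div_pow, hc2, ← pow_mul, show z ^ (3 * 2) = -i by rw [hi]; linear_combination (z ^ 2) * hz4]
      field_simp
    refine ⟨z ^ 3 / (1 + i), by rw [h5]; norm_num, ?_⟩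
    rw [div_pow, hc, ← pow_mul, mul_comm 3 q, pow_mul, hzq, hmo.neg_one_pow]
    linear_combination -h5

theorem uni_m3 (hF : Fintype.card F = q ^ 2) {h : F} (h1 : (2 * h ^ 2) ^ 2 = 1) (h2 : 2 * h * h ^ q = 1) :
    (m3 h)ᵀ * (m3 h).map (conj hF) = 1 := by
  have e2 : conj hF (2 : F) = 2 := map_ofNat _ 2
  have h0 : h ≠ 0 := by
    rintro rfl
    norm_num at h1
  have h2' : 2 * h * conj hF h = 1 := h2
  have h3 : (2 * h ^ 2) * (2 * conj hF h ^ 2) = 1 := by
    linear_combination (2 * h * conj hF h + 1) * h2'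
  ext i j
  fin_cases i <;> fin_cases j <;> simp [m3, Matrix.mul_apply, Fin.sum_univ_three, e2] <;>
    first | linear_combination h2' | linear_combination h3 | ring1

theorem uni_m4 (hF : Fintype.card F = q ^ 2) {h : F} (h2 : 2 * h * h ^ q = 1) :
    (m4 h)ᵀ * (m4 h).map (conj hF) = 1 := by
  have h2' : 2 * h * conj hF h = 1 := h2
  ext i j
  fin_cases i <;> fin_cases j <;> simp [m4, Matrix.mul_apply, Fin.sum_univ_four] <;>
    first | linear_combination h2' | ring1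

/-- **`PSU_n(q)`, `n ≥ 3`, `q` odd** -/
theorem rowM_psu {π : Set ℕ} {S : Type u} [Group S] [Finite S] [IsSimpleGroup S] {H A : Subgroup S}
    (hna : ∃ a b : S, a * b ≠ b * a) (d : HA π 2 H A) (h2π : 2 ∈ π) (h3π : 3 ∉ π) {p : ℕ} (hp : p.Prime)
    (hpπ : p ∉ π) [CharP F p] (hn : 3 ≤ n) (hF : Fintype.card F = q ^ 2) (e : S ≃* PSU n F q) : RowM π S := by
  have : Fact p.Prime := ⟨hp⟩
  have hp2 : p ≠ 2 := by rintro rfl; exact hpπ h2π
  let f : SU n F q →* S := e.symm.toMonoidHom.comp (QuotientGroup.mk' (Subgroup.center (SU n F q)))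
  have hker : f.ker = Subgroup.center (SU n F q) := by
    ext x
    rw [MonoidHom.mem_ker]
    change e.symm (QuotientGroup.mk' _ x) = 1 ↔ _
    rw [MulEquiv.map_eq_one_iff]
    exact QuotientGroup.eq_one_iff x
  refine rowM_of_md hna d h2π h3π hpπ (mdSU n hF hn) hn f ?_ hker ?_ ?_
  · exact e.symm.surjective.comp (QuotientGroup.mk'_surjective _)
  · intro t _ htd
    rw [S0279.result hF n hn] at htd
    exact ⟨htd.trans (Nat.gcd_dvd_left _ _), htd.trans (Nat.gcd_dvd_right _ _)⟩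
  · intro h4
    obtain ⟨h, h1, h2⟩ := exists_h_su hp2 hF h4
    refine exists_cyc (mdSU n hF hn) hn h1 ?_ ?_
    · rintro rfl
      exact ⟨⟨⟨m3 h, det_m3 h1⟩, mem_SU_of hF (uni_m3 hF h1 h2)⟩, rfl⟩
    · intro hn4
      exact ⟨⟨⟨bm (Fin.castLE hn4) (m4 h), by rw [det_bm (Fin.castLE_injective _), det_m4 h1]⟩,
        mem_SU_of hF (uni_block hF (Fin.castLE_injective _) (uni_m4 hF h2))⟩, rfl⟩

end su

section final

variable {π : Set ℕ} {S : Type u} [Group S] [Finite S] [IsSimpleGroup S] {p : ℕ}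

/-- **P6, linear groups** -/
theorem rowM_psl_of_ftwo (hna : ∃ a b : S, a * b ≠ b * a) (h : Cfsg.Agent.H959.RV.FTwo π S) (h2π : 2 ∈ π)
    (h3π : 3 ∉ π) (hp : p.Prime) (hpπ : p ∉ π) {F : Type*} [Field F] [Finite F] [CharP F p] {n : ℕ} (hn : 3 ≤ n)
    (e : S ≃* ProjectiveSpecialLinearGroup (Fin n) F) : RowM π S := by
  obtain ⟨H, A, h1, h2, h3, h4, h5, h6⟩ := h
  exact rowM_psl hna (HA.of_two ⟨h1, h2, h3, h4, h5, h6⟩) h2π h3π hp hpπ hn e

/-- **P6, unitary groups** -/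
theorem rowM_psu_of_ftwo (hna : ∃ a b : S, a * b ≠ b * a) (h : Cfsg.Agent.H959.RV.FTwo π S) (h2π : 2 ∈ π)
    (h3π : 3 ∉ π) (hp : p.Prime) (hpπ : p ∉ π) (hS : IsPSUChar p S) : RowM π S := by
  obtain ⟨H, A, h1, h2, h3, h4, h5, h6⟩ := h
  obtain ⟨F, _, _, _, n, q, hF, hn, -, ⟨e⟩⟩ := hS
  exact rowM_psu hna (HA.of_two ⟨h1, h2, h3, h4, h5, h6⟩) h2π h3π hp hpπ hn hF e

/-- **P6, `PSL`**: either `PSL_2(q)` or the row holds -/
theorem rowM_pslChar (hna : ∃ a b : S, a * b ≠ b * a) (h : Cfsg.Agent.H959.RV.FTwo π S) (h2π : 2 ∈ π)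
    (h3π : 3 ∉ π) (hp : p.Prime) (hpπ : p ∉ π) (hS : IsPSLChar p S) :
    (∃ (F : Type) (_ : Field F) (_ : Fintype F), CharP F p ∧ 4 ≤ Fintype.card F ∧
      Nonempty (S ≃* ProjectiveSpecialLinearGroup (Fin 2) F)) ∨ RowM π S := by
  obtain ⟨F, _, _, _, n, hn, h4, ⟨e⟩⟩ := hS
  by_cases h3' : 3 ≤ n
  · exact Or.inr (rowM_psl_of_ftwo hna h h2π h3π hp hpπ h3' e)
  · obtain rfl : n = 2 := by omega
    exact Or.inl ⟨F, inferInstance, inferInstance, inferInstance, h4 rfl, ⟨e⟩⟩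

end final

end Cfsg.Agent.H205.RM
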