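import Cfsg.Agent.H571.RM.RowZB

/-!
# S3849: `RowM` from a class of subgroups (helper205)

`rowM_of_sub` : `B₀ ≠ 1` an `r`-group all of whose conjugates contained in `H` centralise `A`.
-/

set_option autoImplicit false

namespace Cfsg.Agent.H205.RM

open Subgroup Cfsg Cfsg.Agent.H988.CPi Cfsg.Agent.H571.DExt Cfsg.Agent.H571.RV Cfsg.Agent.H571.RM Cfsg.Agent.Solvable.SZ
open scoped Pointwise

universe u

variable {π : Set ℕ} {r : ℕ} {S : Type u} [Group S] {H A : Subgroup S}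

/-- the subgroup generated by the conjugates of `B₀` contained in `H` -/
def cB (H B₀ : Subgroup S) : Subgroup S :=
  closure {y | ∃ g : S, MulAut.conj g • B₀ ≤ H ∧ y ∈ MulAut.conj g • B₀}

theorem cB_le (B₀ : Subgroup S) : cB H B₀ ≤ H := by
  rw [cB, closure_le]
  rintro y ⟨g, hg, hy⟩
  exact hg hy

theorem cB_smul_le (B₀ : Subgroup S) (x : S) : MulAut.conj x • cB H B₀ ≤ cB (MulAut.conj x • H) B₀ := by
  rintro _ ⟨y, hy, rfl⟩
  change y ∈ (cB (MulAut.conj x • H) B₀).comap (MulAut.conj x).toMonoidHom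
  revert y
  change cB H B₀ ≤ (cB (MulAut.conj x • H) B₀).comap (MulAut.conj x).toMonoidHom
  rw [cB, closure_le]
  rintro y ⟨g, hg, hy⟩
  refine subset_closure ⟨x * g, ?_, ?_⟩
  · rw [map_mul, mul_smul]
    exact smul_mono_right _ hg
  · rw [map_mul, mul_smul]
    exact ⟨y, hy, rfl⟩

theorem cB_smul (B₀ : Subgroup S) (x : S) : cB (MulAut.conj x • H) B₀ = MulAut.conj x • cB H B₀ := by
  refine le_antisymm ?_ (cB_smul_le B₀ x)
  have h1 := cB_smul_le (H := MulAut.conj x • H) B₀ x⁻¹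
  rw [← mul_smul, ← map_mul, inv_mul_cancel, map_one, one_smul] at h1
  have h2 : MulAut.conj x • MulAut.conj x⁻¹ • cB (MulAut.conj x • H) B₀ ≤ MulAut.conj x • cB H B₀ :=
    smul_mono_right _ h1
  rwa [← mul_smul, ← map_mul, mul_inv_cancel, map_one, one_smul] at h2

theorem le_normalizer_cB (B₀ : Subgroup S) : H ≤ normalizer (cB H B₀ : Set S) := by
  have h1 : ∀ x ∈ H, MulAut.conj x • cB H B₀ = cB H B₀ := by
    intro x hx
    rw [← cB_smul]
    congr 1
    ext y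
    rw [mem_smul_iff']
    constructor
    · intro hy
      have h2 := H.mul_mem (H.mul_mem hx hy) (H.inv_mem hx)
      have h3 : x * (x⁻¹ * y * x) * x⁻¹ = y := by group
      rwa [h3] at h2
    · intro hy
      exact H.mul_mem (H.mul_mem (H.inv_mem hx) hy) hx
  rw [le_normalizer_iff]
  intro x hx b hb
  rw [← h1 x hx]
  exact ⟨b, hb, rfl⟩

variable [Finite S]

/-- **a class of subgroups** -/
theorem rowM_of_sub [IsSimpleGroup S] (hna : ∃ a b : S, a * b ≠ b * a) (d : HA π r H A) (hrπ : r ∈ π)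
    {B₀ : Subgroup S} (hB1 : B₀ ≠ ⊥) (hB : IsPGroup r B₀)
    (hcen : Dom π S → ∀ g : S, MulAut.conj g • B₀ ≤ H → ∀ b ∈ MulAut.conj g • B₀, ∀ a ∈ A, b * a = a * b) :
    RowM π S := by
  intro hsm hD
  obtain ⟨R, hR, hRH, hRA, hRmem⟩ := d.exists_core
  have hBR : cB H B₀ ≤ R := by
    rw [cB, closure_le]
    rintro y ⟨g, hg, hy⟩
    refine hRmem _ (hg hy) ?_ (hcen hD g hg y hy)
    obtain ⟨b, hb, rfl⟩ := hy
    obtain ⟨k, hk⟩ := hB ⟨b, hb⟩
    refine ⟨k, ?_⟩
    have h1 : b ^ r ^ k = 1 := congrArg Subtype.val hk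
    change (MulAut.conj g b) ^ r ^ k = 1
    rw [← map_pow, h1, map_one]
  have hdom := (d.dfw hD).dom
  have key : ∀ g x : S, ∀ Q : Subgroup S, MulAut.conj g • cB H B₀ ≤ Q → Q ≤ MulAut.conj x • H →
      MulAut.conj g • cB H B₀ = MulAut.conj x • cB H B₀ := by
    intro g x Q h1 h2
    have h3 : MulAut.conj g • cB H B₀ ≤ MulAut.conj x • cB H B₀ := by
      rw [← cB_smul, ← cB_smul]
      have h4 : cB (MulAut.conj g • H) B₀ ≤ MulAut.conj x • H := by
        rw [cB_smul]; exact h1.trans h2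
      rw [cB, closure_le] at h4 ⊢
      rintro y ⟨w, hw, hy⟩
      exact subset_closure ⟨w, fun y' hy' => h4 ⟨w, hw, hy'⟩, hy⟩
    exact eq_of_le_of_card_ge h3 (by rw [card_conj_smul, card_conj_smul])
  refine rowM_of_wc (B := cB H B₀) hna d hrπ (hR.to_le hBR) ?_ (cB_le B₀) (le_normalizer_cB B₀)
    (fun b hb a ha => hRA b (hBR hb) a ha) ?_ hsm hD
  · intro hbot
    obtain ⟨x, -, hx⟩ := hdom B₀ le_top (piN_of_pgroup d.hr hrπ hB)
    have h1 : MulAut.conj x⁻¹ • B₀ ≤ H := by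
      have h2 : MulAut.conj x⁻¹ • B₀ ≤ MulAut.conj x⁻¹ • MulAut.conj x • H := smul_mono_right _ hx
      rwa [← mul_smul, ← map_mul, inv_mul_cancel, map_one, one_smul] at h2
    apply hB1
    rw [eq_bot_iff]
    intro b hb
    have h2 : MulAut.conj x⁻¹ b ∈ cB H B₀ := subset_closure ⟨x⁻¹, h1, ⟨b, hb, rfl⟩⟩
    rw [hbot, mem_bot] at h2
    rw [mem_bot]
    exact (MulEquiv.map_eq_one_iff _).1 h2
  · intro _ g Q hQ h1 h2
    obtain ⟨x, -, hx⟩ := hdom Q le_top (piN_of_pgroup d.hr hrπ hQ)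
    have h3 := key g x Q h2 hx
    have h4 := key 1 x Q (by rw [map_one, one_smul]; exact h1) hx
    rw [map_one, one_smul] at h4
    exact h3.trans h4.symm

end Cfsg.Agent.H205.RM
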